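import Groth.Agent.EquidimLib.DimIrreducible
import Groth.Agent.UOpenLib.DimOne
import Groth.Agent.DimIneqLib.Dim

/-! Dimension of the source in terms of the base and the generic fibre. -/

set_option autoImplicit false
universe u

open AlgebraicGeometry CategoryTheory

namespace DimFibreLib

theorem biSup_add_le {ι : Type u} (s : Set ι) (a : ι → WithBot ℕ∞) (e : ℕ) (b : WithBot ℕ∞) (hs : s.Nonempty)
    (ha : ∀ i ∈ s, 0 ≤ a i) (h : ∀ i ∈ s, a i + e ≤ b) : (⨆ i ∈ s, a i) + e ≤ b := by
  obtain ⟨i₀, hi₀⟩ := hs
  induction b using WithBot.recBotCoe with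
  | bot =>
    exact absurd (le_bot_iff.mp ((add_le_add (ha _ hi₀) (le_refl (e : WithBot ℕ∞))).trans (h _ hi₀))) (by simp)
  | coe b =>
    induction b using ENat.recTopCoe with
    | top => exact le_top
    | coe d =>
      have key : ∀ i ∈ s, ∃ n : ℕ, a i = n ∧ n + e ≤ d := by
        intro i hi
        have h' := h i hi
        have h0 := ha i hi
        induction hv : a i using WithBot.recBotCoe with
        | bot => rw [hv] at h0; exact absurd (le_bot_iff.mp h0) (by simp)
        | coe v =>
          rw [hv] at h'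
          induction v using ENat.recTopCoe with
          | top =>
            exact absurd (top_le_iff.mp (by simpa using WithBot.coe_le_coe.mp h' : (⊤ : ℕ∞) ≤ d)) (ENat.coe_ne_top d)
          | coe n => exact ⟨n, rfl, by exact_mod_cast h'⟩
      obtain ⟨n₀, -, hn₀⟩ := key i₀ hi₀
      have hle : (⨆ i ∈ s, a i) ≤ ((d - e : ℕ) : WithBot ℕ∞) := iSup₂_le fun i hi => by
        obtain ⟨n, hn, hnd⟩ := key i hi
        rw [hn]; exact_mod_cast (show n ≤ d - e by omega)
      refine (add_le_add hle le_rfl).trans ?_
      show ((d - e : ℕ) : WithBot ℕ∞) + (e : WithBot ℕ∞) ≤ ((d : ℕ) : WithBot ℕ∞)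
      rw [← Nat.cast_add]
      exact Nat.cast_le.mpr (show d - e + e ≤ d by omega)

/-- A dimension bound on all local rings bounds the dimension. -/
theorem dim_le_of_stalks {X : Scheme.{u}} (b : WithBot ℕ∞) (hb : ∀ x : X, ringKrullDim (X.presheaf.stalk x) ≤ b) :
    topologicalKrullDim X ≤ b := by
  have key : ∀ m : ℕ, (m : WithBot ℕ∞) ≤ topologicalKrullDim X → (m : WithBot ℕ∞) ≤ b := fun m hm => by
    obtain ⟨x, hx⟩ := DimIneqLib.exists_stalk_of_chain hm
    exact hx.trans (hb x)
  generalize topologicalKrullDim X = a at key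
  induction a using WithBot.recBotCoe with
  | bot => exact bot_le
  | coe a =>
    induction b using WithBot.recBotCoe with
    | bot => exact absurd (key 0 (WithBot.coe_le_coe.mpr zero_le)) (by simp)
    | coe b =>
      refine WithBot.coe_le_coe.mpr (ENat.forall_natCast_le_iff_le.mp fun m hm => ?_)
      exact WithBot.coe_le_coe.mp (key m (WithBot.coe_le_coe.mpr hm))

variable {X Y : Scheme.{u}} (f : X ⟶ Y) [IsLocallyNoetherian Y] [LocallyOfFiniteType f] [IrreducibleSpace X]
  [IrreducibleSpace Y]

theorem image_genericPoint (hf : DenseRange f.base) : f.base (genericPoint X) = genericPoint Y := by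
  refine (((genericPoint_spec X).image f.continuous).eq ?_)
  show closure _ = closure _
  rw [(genericPoint_spec Y).def, Set.image_univ, hf.closure_range]

theorem generic_fibre_dim (hf : DenseRange f.base) :
    topologicalKrullDim (f.fiber (genericPoint Y)) = UOpenLib.fibreClosureDim f (genericPoint X) := by
  rw [UOpenLib.fibreClosureDim_eq_inter, image_genericPoint f hf, (genericPoint_spec X).def]
  exact IsHomeomorph.topologicalKrullDim_eq _
    ((f.fiberHomeo (genericPoint Y)).trans (Homeomorph.setCongr (Set.univ_inter _).symm)).isHomeomorph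

theorem stalk_le (hf : DenseRange f.base) (e : ℕ) (he : topologicalKrullDim (f.fiber (genericPoint Y)) = e) (x : X) :
    ringKrullDim (X.presheaf.stalk x) ≤ ringKrullDim (Y.presheaf.stalk (f.base x)) + e := by
  haveI : IsLocallyNoetherian X := LocallyOfFiniteType.isLocallyNoetherian f
  obtain ⟨c, hc⟩ := UOpenLib.exists_fibreClosureDim_eq_nat f x
  have h1 := EquidimLib.dimBetween_add_fibreClosureDim_le f (genericPoint_specializes x)
  rw [image_genericPoint f hf, EquidimLib.dimBetween_genericPoint, EquidimLib.dimBetween_genericPoint,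
    ← generic_fibre_dim f hf, he, hc] at h1
  exact (le_add_of_nonneg_right (by exact_mod_cast c.zero_le)).trans h1

theorem exists_stalk_eq (hf : DenseRange f.base) (e : ℕ) (he : topologicalKrullDim (f.fiber (genericPoint Y)) = e)
    {y : Y} (hy : y ∈ Set.range f.base) (hcat : CAlg.IsUniversallyCatenary (Y.presheaf.stalk y)) :
    ringKrullDim (Y.presheaf.stalk y) + e ≤ topologicalKrullDim X := by
  haveI : IsLocallyNoetherian X := LocallyOfFiniteType.isLocallyNoetherian f
  obtain ⟨x₀, rfl⟩ := hy
  obtain ⟨x, hx, -, hmax⟩ := UOpenLib.exists_closed_point_of_fibre f (f.base x₀) isClosed_univ ⟨x₀, trivial, rfl⟩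
  have hc : UOpenLib.fibreClosureDim f x = 0 := by
    rw [UOpenLib.fibreClosureDim_eq_inter]
    have hset : closure {x} ∩ f.base ⁻¹' {f.base x} = {x} := by
      ext z
      refine ⟨fun hz => hmax z (by rw [← hx]; exact hz.2) (specializes_iff_mem_closure.mpr hz.1), ?_⟩
      rintro rfl
      exact ⟨subset_closure rfl, rfl⟩
    rw [hset]
    haveI : Unique ↥({x} : Set X) := Set.uniqueSingleton x
    refine le_antisymm (topologicalKrullDim_zero_of_discreteTopology _) ?_
    haveI : Nonempty (TopologicalSpace.IrreducibleCloseds ↥({x} : Set X)) :=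
      ⟨⟨Set.univ, ⟨Set.univ_nonempty, Set.subsingleton_univ.isPreirreducible⟩, isClosed_univ⟩⟩
    exact Order.krullDim_nonneg
  have h1 := EquidimLib.dimBetween_add_fibreClosureDim_eq f (genericPoint_specializes x) (hx ▸ hcat)
  rw [image_genericPoint f hf, EquidimLib.dimBetween_genericPoint, EquidimLib.dimBetween_genericPoint,
    ← generic_fibre_dim f hf, he, hc, add_zero, hx] at h1
  exact h1.symm.le.trans (DimIneqLib.stalk_dim_le_dim _)

theorem exists_generic_fibre_dim (hf : DenseRange f.base) :
    ∃ e : ℕ, topologicalKrullDim (f.fiber (genericPoint Y)) = e := by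
  rw [generic_fibre_dim f hf]
  exact UOpenLib.exists_fibreClosureDim_eq_nat f _

end DimFibreLib
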